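import Mathlib

/-! Every algebra is a directed colimit of finitely presented algebras. -/

namespace Groth.Agent.FPSysLib.Alg

open MvPolynomial CategoryTheory Limits

universe u

variable (R : Type u) [CommRing R] (A : Type u) [CommRing A] [Algebra R A]

/-- Finitely many generators and finitely many relations of `A`. -/
abbrev Idx : Type u :=
  {p : Finset A × Finset (MvPolynomial A R) // ∀ z ∈ p.2, aeval (id : A → A) z = 0}

variable {R A}

/-- Relations of a stage. -/
noncomputable def rel (p : Idx R A) : Ideal (MvPolynomial {x // x ∈ p.1.1} R) :=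
  Ideal.span {w | rename Subtype.val w ∈ p.1.2}

theorem rel_fg (p : Idx R A) : (rel p).FG :=
  Submodule.fg_span (Set.Finite.preimage (rename_injective _ Subtype.val_injective).injOn p.1.2.finite_toSet)

/-- A stage. -/
abbrev Stage (p : Idx R A) : Type u := MvPolynomial {x // x ∈ p.1.1} R ⧸ rel p

theorem finitePresentation_stage (p : Idx R A) : Algebra.FinitePresentation R (Stage p) :=
  Algebra.FinitePresentation.quotient (rel_fg p)

theorem rel_le (p : Idx R A) (w) (hw : w ∈ rel p) : aeval (Subtype.val : {x // x ∈ p.1.1} → A) w = 0 :=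
  (Ideal.span_le (I := RingHom.ker (aeval (Subtype.val : {x // x ∈ p.1.1} → A)))).mpr (fun v hv => by
    show aeval Subtype.val v = 0
    have := p.2 _ hv
    rwa [aeval_rename, Function.id_comp] at this) hw

/-- The cone. -/
noncomputable def toLim (p : Idx R A) : Stage p →ₐ[R] A :=
  Ideal.Quotient.liftₐ _ (aeval Subtype.val) (rel_le p)

theorem toLim_mk (p : Idx R A) (w) : toLim p (Ideal.Quotient.mk _ w) = aeval Subtype.val w := rfl

/-- Transition maps. -/
noncomputable def trans (p q : Idx R A) (h : p ≤ q) : Stage p →ₐ[R] Stage q :=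
  Ideal.Quotient.liftₐ _ ((Ideal.Quotient.mkₐ R (rel q)).comp (rename fun x : {x // x ∈ p.1.1} => (⟨x.1, h.1 x.2⟩ : {x // x ∈ q.1.1})))
    fun w hw => (Ideal.span_le (I := RingHom.ker ((Ideal.Quotient.mkₐ R (rel q)).comp
      (rename fun x : {x // x ∈ p.1.1} => (⟨x.1, h.1 x.2⟩ : {x // x ∈ q.1.1}))))).mpr (fun v hv => by
        show Ideal.Quotient.mk _ (rename _ v) = 0
        rw [Ideal.Quotient.eq_zero_iff_mem]
        refine Ideal.subset_span ?_
        show rename Subtype.val _ ∈ q.1.2
        rw [rename_rename]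
        exact h.2 hv) hw

theorem trans_mk (p q : Idx R A) (h : p ≤ q) (w) :
    trans p q h (Ideal.Quotient.mk _ w) = Ideal.Quotient.mk _ (rename (fun x => ⟨x.1, h.1 x.2⟩) w) := rfl

instance : Nonempty (Idx R A) := ⟨⟨(∅, ∅), by simp⟩⟩

instance : IsDirected (Idx R A) (· ≤ ·) := by
  classical
  exact ⟨fun p q => ⟨⟨(p.1.1 ∪ q.1.1, p.1.2 ∪ q.1.2), fun z hz => (Finset.mem_union.mp hz).elim (p.2 z) (q.2 z)⟩,
    ⟨Finset.subset_union_left, Finset.subset_union_left⟩, ⟨Finset.subset_union_right, Finset.subset_union_right⟩⟩⟩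

theorem trans_self (p : Idx R A) : trans p p le_rfl = AlgHom.id R (Stage p) :=
  Ideal.Quotient.algHom_ext _ (MvPolynomial.algHom_ext fun x => by
    show trans p p le_rfl (Ideal.Quotient.mk _ (X x)) = Ideal.Quotient.mk _ (X x)
    rw [trans_mk, rename_X])

theorem trans_trans {p q r : Idx R A} (h : p ≤ q) (h' : q ≤ r) :
    (trans q r h').comp (trans p q h) = trans p r (le_trans h h') :=
  Ideal.Quotient.algHom_ext _ (MvPolynomial.algHom_ext fun x => by
    show trans q r h' (trans p q h (Ideal.Quotient.mk _ (X x))) = trans p r (le_trans h h') (Ideal.Quotient.mk _ (X x))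
    simp only [trans_mk, rename_X])

theorem toLim_trans (p q : Idx R A) (h : p ≤ q) : (toLim q).comp (trans p q h) = toLim p :=
  Ideal.Quotient.algHom_ext _ (MvPolynomial.algHom_ext fun x => by
    show toLim q (trans p q h (Ideal.Quotient.mk _ (X x))) = toLim p (Ideal.Quotient.mk _ (X x))
    simp only [trans_mk, toLim_mk, rename_X, aeval_X])

theorem exists_toLim_eq (a : A) : ∃ (p : Idx R A) (x : Stage p), toLim p x = a := by
  classical
  exact ⟨⟨({a}, ∅), by simp⟩, Ideal.Quotient.mk _ (X ⟨a, Finset.mem_singleton_self a⟩), by rw [toLim_mk, aeval_X]⟩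

theorem exists_trans_eq_zero (p : Idx R A) (x : Stage p) (hx : toLim p x = 0) :
    ∃ (q : Idx R A) (h : p ≤ q), q.1.1 = p.1.1 ∧ trans p q h x = 0 := by
  classical
  obtain ⟨w, rfl⟩ := Ideal.Quotient.mk_surjective x
  refine ⟨⟨(p.1.1, insert (rename Subtype.val w) p.1.2), fun z hz => ?_⟩,
    ⟨Finset.Subset.refl _, Finset.subset_insert _ _⟩, rfl, ?_⟩
  · rcases Finset.mem_insert.mp hz with rfl | hz
    · rw [aeval_rename, Function.id_comp]
      exact hx
    · exact p.2 z hz
  · rw [trans_mk, Ideal.Quotient.eq_zero_iff_mem]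
    refine Ideal.subset_span ?_
    show rename Subtype.val (rename (fun x : {x // x ∈ p.1.1} => (⟨x.1, x.2⟩ : {x // x ∈ p.1.1})) w) ∈
      insert (rename Subtype.val w) p.1.2
    rw [rename_rename]
    exact Finset.mem_insert_self _ _

/-- A cocone of algebras which is elementwise a colimit is a colimit. -/
theorem nonempty_isColimit {J : Type u} [Preorder J] [IsDirected J (· ≤ ·)] [Nonempty J]
    {D : J ⥤ Under (CommRingCat.of R)} (c : Cocone D)
    (h1 : ∀ x : c.pt.right, ∃ (j : J) (y : (D.obj j).right), (c.ι.app j).right y = x)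
    (h2 : ∀ (j : J) (x y : (D.obj j).right), (c.ι.app j).right x = (c.ι.app j).right y →
      ∃ (k : J) (h : j ≤ k), (D.map (homOfLE h)).right x = (D.map (homOfLE h)).right y) :
    Nonempty (IsColimit c) := by
  have : ReflectsFilteredColimits (forget CommRingCat.{u}) :=
    ⟨fun _ ↦ reflectsColimitsOfShape_of_reflectsIsomorphisms⟩
  have hc : IsColimit ((Under.forget _).mapCocone c) := by
    refine isColimitOfReflects (forget CommRingCat.{u}) (Types.FilteredColimit.isColimitOf' _ _ ?_ ?_)
    · intro x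
      obtain ⟨j, y, hy⟩ := h1 x
      exact ⟨j, y, hy.symm⟩
    · intro j x y e
      obtain ⟨k, h, hk⟩ := h2 j x y e
      exact ⟨k, homOfLE h, hk⟩
  let j₀ : J := Classical.arbitrary J
  refine ⟨{ desc := fun s => Under.homMk (hc.desc ((Under.forget _).mapCocone s)) ?_, fac := ?_, uniq := ?_ }⟩
  · refine (congrArg (· ≫ hc.desc ((Under.forget _).mapCocone s)) (Under.w (c.ι.app j₀))).symm.trans ?_
    exact (Category.assoc _ _ _).trans ((congrArg _ (hc.fac ((Under.forget _).mapCocone s) j₀)).trans (Under.w (s.ι.app j₀)))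
  · intro s j
    exact Under.UnderMorphism.ext (hc.fac ((Under.forget _).mapCocone s) j)
  · intro s m hm
    exact Under.UnderMorphism.ext (hc.uniq ((Under.forget _).mapCocone s) m.right
      fun j => congrArg (fun f => f.right) (hm j))

end Groth.Agent.FPSysLib.Alg
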