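import Mathlib

/-! Every module is a directed colimit of finitely presented modules. -/

namespace Groth.Agent.FPSysLib

universe u

variable (R : Type u) [CommRing R] (M : Type u) [AddCommGroup M] [Module R M]

/-- Finitely many generators and finitely many relations of `M`. -/
abbrev Idx : Type u :=
  {p : Finset M × Finset (M →₀ R) // ∀ z ∈ p.2, Finsupp.linearCombination R id z = 0}

variable {R M}

/-- Relations of a stage. -/
noncomputable def rel (p : Idx R M) : Submodule R ({x // x ∈ p.1.1} →₀ R) :=
  Submodule.span R {w | Finsupp.lmapDomain R R Subtype.val w ∈ p.1.2}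

theorem rel_fg (p : Idx R M) : (rel p).FG :=
  Submodule.fg_span (Set.Finite.preimage (Finsupp.mapDomain_injective Subtype.val_injective).injOn p.1.2.finite_toSet)

/-- A stage. -/
abbrev Stage (p : Idx R M) : Type u := ({x // x ∈ p.1.1} →₀ R) ⧸ rel p

theorem finitePresentation_stage (p : Idx R M) : Module.FinitePresentation R (Stage p) :=
  Module.finitePresentation_of_surjective (rel p).mkQ (rel p).mkQ_surjective (by rw [Submodule.ker_mkQ]; exact rel_fg p)

theorem rel_le (p : Idx R M) : rel p ≤ LinearMap.ker (Finsupp.linearCombination R (Subtype.val : {x // x ∈ p.1.1} → M)) := by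
  refine Submodule.span_le.mpr fun w hw => ?_
  have := p.2 _ hw
  rwa [Finsupp.lmapDomain_apply, Finsupp.linearCombination_mapDomain, Function.id_comp] at this

/-- The cone. -/
noncomputable def toLim (p : Idx R M) : Stage p →ₗ[R] M :=
  (rel p).liftQ _ (rel_le p)

theorem toLim_mk (p : Idx R M) (w) : toLim p (Submodule.Quotient.mk w) = Finsupp.linearCombination R Subtype.val w := rfl

/-- Transition maps. -/
noncomputable def trans (p q : Idx R M) (h : p ≤ q) : Stage p →ₗ[R] Stage q :=
  Submodule.mapQ _ _ (Finsupp.lmapDomain R R fun x : {x // x ∈ p.1.1} => (⟨x.1, h.1 x.2⟩ : {x // x ∈ q.1.1})) <| by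
    refine Submodule.span_le.mpr fun w hw => Submodule.subset_span ?_
    show Finsupp.lmapDomain R R Subtype.val _ ∈ q.1.2
    rw [← LinearMap.comp_apply, ← Finsupp.lmapDomain_comp]
    exact h.2 hw

theorem trans_mk (p q : Idx R M) (h : p ≤ q) (w) :
    trans p q h (Submodule.Quotient.mk w) = Submodule.Quotient.mk (Finsupp.mapDomain (fun x => ⟨x.1, h.1 x.2⟩) w) := rfl

instance : Nonempty (Idx R M) := ⟨⟨(∅, ∅), by simp⟩⟩

instance : IsDirected (Idx R M) (· ≤ ·) := by
  classical
  exact ⟨fun p q => ⟨⟨(p.1.1 ∪ q.1.1, p.1.2 ∪ q.1.2), fun z hz => (Finset.mem_union.mp hz).elim (p.2 z) (q.2 z)⟩,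
    ⟨Finset.subset_union_left, Finset.subset_union_left⟩, ⟨Finset.subset_union_right, Finset.subset_union_right⟩⟩⟩

theorem trans_self (p : Idx R M) : trans p p le_rfl = LinearMap.id :=
  Submodule.linearMap_qext _ (Finsupp.lhom_ext fun x r => by
    show trans p p le_rfl (Submodule.Quotient.mk (Finsupp.single x r)) = Submodule.Quotient.mk (Finsupp.single x r)
    rw [trans_mk, Finsupp.mapDomain_single])

theorem trans_trans {p q r : Idx R M} (h : p ≤ q) (h' : q ≤ r) :
    (trans q r h').comp (trans p q h) = trans p r (le_trans h h') :=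
  Submodule.linearMap_qext _ (Finsupp.lhom_ext fun x a => by
    show trans q r h' (trans p q h (Submodule.Quotient.mk (Finsupp.single x a))) = trans p r (le_trans h h') (Submodule.Quotient.mk (Finsupp.single x a))
    simp only [trans_mk, Finsupp.mapDomain_single])

instance directedSystem : DirectedSystem (fun p : Idx R M => Stage p) fun p q h => trans p q h where
  map_self _ x := LinearMap.congr_fun (trans_self _) x
  map_map _ _ _ h h' x := LinearMap.congr_fun (trans_trans h h') x

theorem toLim_trans (p q : Idx R M) (h : p ≤ q) (x : Stage p) : toLim q (trans p q h x) = toLim p x := by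
  obtain ⟨w, rfl⟩ := (rel p).mkQ_surjective x
  simp only [Submodule.mkQ_apply, trans_mk, toLim_mk, Finsupp.linearCombination_mapDomain]
  rfl

theorem exists_toLim_eq (m : M) : ∃ (p : Idx R M) (x : Stage p), toLim p x = m := by
  classical
  refine ⟨⟨({m}, ∅), by simp⟩, Submodule.Quotient.mk (Finsupp.single ⟨m, Finset.mem_singleton_self m⟩ 1), ?_⟩
  rw [toLim_mk, Finsupp.linearCombination_single, one_smul]

theorem exists_trans_eq_zero (p : Idx R M) (x : Stage p) (hx : toLim p x = 0) :
    ∃ (q : Idx R M) (h : p ≤ q), trans p q h x = 0 := by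
  classical
  obtain ⟨w, rfl⟩ := (rel p).mkQ_surjective x
  refine ⟨⟨(p.1.1, insert (Finsupp.lmapDomain R R Subtype.val w) p.1.2), fun z hz => ?_⟩,
    ⟨Finset.Subset.refl _, Finset.subset_insert _ _⟩, ?_⟩
  · rcases Finset.mem_insert.mp hz with rfl | hz
    · rw [Finsupp.lmapDomain_apply, Finsupp.linearCombination_mapDomain, Function.id_comp]
      exact hx
    · exact p.2 z hz
  · rw [Submodule.mkQ_apply, trans_mk, Submodule.Quotient.mk_eq_zero]
    refine Submodule.subset_span ?_
    show Finsupp.lmapDomain R R Subtype.val (Finsupp.mapDomain (fun x : {x // x ∈ p.1.1} => (⟨x.1, x.2⟩ : {x // x ∈ p.1.1})) w) ∈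
      insert (Finsupp.lmapDomain R R Subtype.val w) p.1.2
    rw [show (fun x : {x // x ∈ p.1.1} => (⟨x.1, x.2⟩ : {x // x ∈ p.1.1})) = id from rfl, Finsupp.mapDomain_id]
    exact Finset.mem_insert_self _ _

end Groth.Agent.FPSysLib
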